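import Cfsg.Agent.LAE65.Basic
import Mathlib.GroupTheory.Sylow
import Mathlib.GroupTheory.Index

/-!
In a 2-group whose real elements are central, an automorphism of odd order fixing every
involution is trivial.
-/

set_option autoImplicit false
set_option maxHeartbeats 400000

open Subgroup

namespace Cfsg.Agent.Real72

variable {G : Type*} [Group G] [Finite G]

theorem mem_normalizer_closure {s : Set G} {g : G} (h : ∀ x ∈ s, g * x * g⁻¹ ∈ s) :
    g ∈ normalizer (closure s : Set G) := by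
  refine LAE65.mem_normalizer_iff_map.2 (eq_of_le_of_card_ge ?_ (LAE65.card_map_conj _ _).ge)
  rw [MonoidHom.map_closure, closure_le]
  rintro _ ⟨x, hx, rfl⟩
  exact subset_closure (h x hx)

/-- An element of odd order which normalises a 2-group whose real elements are central and which
centralises its involutions centralises the group. -/
theorem commute_of_real_central {g : G} (hg : Odd (orderOf g)) :
    ∀ (n : ℕ) (U : Subgroup G), Nat.card U = n → IsPGroup 2 U → g ∈ normalizer (U : Set G) →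
      (∀ i ∈ U, i * i = 1 → Commute g i) →
      (∀ u ∈ U, ∀ v ∈ U, v * u * v⁻¹ = u⁻¹ → ∀ w ∈ U, Commute u w) →
      ∀ u ∈ U, Commute g u := by
  intro n
  induction n using Nat.strong_induction_on with
  | _ n IH =>
  intro U hn hU hgU hinv hreal
  subst hn
  haveI : Fact (Nat.Prime 2) := ⟨Nat.prime_two⟩
  have hsub : ∀ V : Subgroup G, V ≤ U → V ≠ U → g ∈ normalizer (V : Set G) →
      ∀ u ∈ V, Commute g u := fun V hV hne hgV =>
    IH _ (lt_of_le_of_ne (card_le_of_le hV) fun h => hne (eq_of_le_of_card_ge hV h.ge)) V rfl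
      (hU.to_le hV) hgV (fun i hi => hinv i (hV hi))
      fun u hu v hv h w hw => hreal u (hV hu) v (hV hv) h w (hV hw)
  by_cases hbot : U = ⊥
  · intro u hu
    rw [hbot, mem_bot] at hu
    rw [hu]
    exact Commute.one_right g
  set c : G → G := fun u => g * u * g⁻¹ with hc
  have hcU : ∀ u ∈ U, c u ∈ U := fun u hu => (mem_normalizer_iff.1 hgU u).1 hu
  -- the subgroup generated by squares is fixed
  set Q := closure {x : G | ∃ u ∈ U, x = u * u} with hQ
  have hQU : Q ≤ U := (closure_le U).2 fun x ⟨u, hu, hx⟩ => hx ▸ U.mul_mem hu hu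
  have hQne : Q ≠ U := by
    obtain ⟨k, hk⟩ := IsPGroup.iff_card.1 hU
    have hk0 : k ≠ 0 := fun h => hbot (card_eq_one.1 (by rw [hk, h, pow_zero]))
    obtain ⟨j, rfl⟩ := Nat.exists_eq_succ_of_ne_zero hk0
    obtain ⟨M, hM⟩ := Sylow.exists_subgroup_card_pow_prime (G := U) 2 (n := j)
      (hk ▸ pow_dvd_pow 2 j.le_succ)
    have hMi : M.index = 2 := by
      have h1 := M.card_mul_index
      rw [hM, hk, pow_succ] at h1
      exact Nat.eq_of_mul_eq_mul_left (by positivity) h1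
    intro h
    have hle : Q ≤ M.map U.subtype := (closure_le _).2 fun x ⟨u, hu, hx⟩ =>
      ⟨⟨u, hu⟩ * ⟨u, hu⟩, mul_self_mem_of_index_two hMi _, hx.symm⟩
    have h2 := card_le_of_le (le_trans h.ge hle)
    rw [card_map_of_injective U.subtype_injective, hM, hk, pow_succ] at h2
    have : 0 < 2 ^ j := by positivity
    omega
  have hQfix : ∀ x ∈ Q, Commute g x := hsub Q hQU hQne (mem_normalizer_closure
    (by
      rintro x ⟨u, hu, rfl⟩
      exact ⟨c u, hcU u hu, by simp [hc, mul_assoc]⟩))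
  have hsq : ∀ u ∈ U, u * u ∈ Q := fun u hu => subset_closure ⟨u, hu, rfl⟩
  have hcomm : ∀ u ∈ U, ∀ v ∈ U, u * v * u⁻¹ * v⁻¹ ∈ Q := fun u hu v hv => by
    have h1 : u * v * u⁻¹ * v⁻¹ = (u * v) * (u * v) * ((v⁻¹ * u⁻¹ * v) * (v⁻¹ * u⁻¹ * v)) *
        (v⁻¹ * v⁻¹) := by group
    rw [h1]
    exact Q.mul_mem (Q.mul_mem (hsq _ (U.mul_mem hu hv))
      (hsq _ (U.mul_mem (U.mul_mem (U.inv_mem hv) (U.inv_mem hu)) hv))) (hsq _ (U.inv_mem hv))
  -- the fixed points
  have hcfix : ∀ x : G, Commute g x → c x = x := fun x hx => by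
    show g * x * g⁻¹ = x
    rw [hx.eq, mul_inv_cancel_right]
  have hfixc : ∀ x : G, c x = x → Commute g x := fun x hx => mul_inv_eq_iff_eq_mul.1 hx
  -- an element moved by a fixed element is fixed
  have hone : ∀ u d : G, c u = d * u → Commute g d → d ∈ U → d = 1 := by
    intro u d hud hd hdU
    have hpow : ∀ i : ℕ, g ^ i * u * (g ^ i)⁻¹ = d ^ i * u := by
      intro i
      induction i with
      | zero => simp
      | succ i ih =>
        rw [pow_succ' g, show g * g ^ i * u * (g * g ^ i)⁻¹ = g * (g ^ i * u * (g ^ i)⁻¹) * g⁻¹ by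
          group, ih, show g * (d ^ i * u) * g⁻¹ = (g * d ^ i * g⁻¹) * c u by simp only [hc]; group,
          (hd.pow_right i).eq, mul_inv_cancel_right, hud, pow_succ, mul_assoc]
    have h1 := hpow (orderOf g)
    rw [pow_orderOf_eq_one, inv_one, one_mul, mul_one] at h1
    have h2 : orderOf d ∣ orderOf g :=
      orderOf_dvd_of_pow_eq_one (mul_eq_right.1 h1.symm)
    obtain ⟨k, hk⟩ := hU.exists_orderOf_eq_pow ⟨d, hdU⟩
    rw [orderOf_mk] at hk
    rcases Nat.eq_zero_or_pos k with rfl | hk0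
    · exact orderOf_eq_one_iff.1 (by simpa using hk)
    · rw [hk] at h2
      exact absurd (hg.of_dvd_nat h2) (Nat.not_odd_iff_even.2 (Nat.even_pow.2 ⟨even_two, hk0.ne'⟩))
  -- `U` is generated by the displacements
  set J := closure {x : G | ∃ u ∈ U, x = u⁻¹ * c u} with hJ
  have hJU : J ≤ U := (closure_le U).2 fun x ⟨u, hu, hx⟩ => hx ▸ U.mul_mem (U.inv_mem hu) (hcU u hu)
  by_cases hJne : J = U
  swap
  · have hJfix := hsub J hJU hJne (mem_normalizer_closure (by
      rintro x ⟨u, hu, rfl⟩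
      exact ⟨c u, hcU u hu, by simp [hc, mul_assoc]⟩))
    intro u hu
    have hd : Commute g (u⁻¹ * c u) := hJfix _ (subset_closure ⟨u, hu, rfl⟩)
    have h1 := hone u⁻¹ (u⁻¹ * c u)⁻¹ (by simp [hc, mul_assoc]) hd.inv_right
      (U.inv_mem (U.mul_mem (U.inv_mem hu) (hcU u hu)))
    rw [inv_eq_one, inv_mul_eq_one] at h1
    exact hfixc u h1.symm
  -- fixed points are central
  have hDZ : ∀ x ∈ U, Commute g x → ∀ w ∈ U, Commute x w := by
    intro x hx hgx w hw
    have hle : J ≤ centralizer ({x} : Set G) := by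
      refine (closure_le _).2 fun y ⟨u, hu, hy⟩ => ?_
      subst hy
      rw [SetLike.mem_coe, mem_centralizer_singleton_iff]
      have h1 : Commute g (u * x * u⁻¹) := by
        have h2 := (hQfix _ (hcomm u hu x hx)).mul_right hgx
        rwa [inv_mul_cancel_right] at h2
      have h2 := hcfix _ h1
      have h3 : g * (u * x * u⁻¹) * g⁻¹ = c u * (g * x * g⁻¹) * (c u)⁻¹ := by
        simp only [hc]; group
      rw [show g * x * g⁻¹ = x from hcfix x hgx] at h3
      have h4 : c u * x * (c u)⁻¹ = u * x * u⁻¹ := h3.symm.trans h2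
      calc u⁻¹ * c u * x = u⁻¹ * (c u * x * (c u)⁻¹) * c u := by group
        _ = u⁻¹ * (u * x * u⁻¹) * c u := by rw [h4]
        _ = x * (u⁻¹ * c u) := by group
    exact (mem_centralizer_singleton_iff.1 ((le_trans hJne.ge hle : U ≤ _) hw)).symm
  have hQZ : ∀ x ∈ Q, ∀ w ∈ U, Commute x w := fun x hx => hDZ x (hQU hx) (hQfix x hx)
  -- the main computation
  intro u hu
  set K : G → G := fun v => v * u * v⁻¹ * u⁻¹ with hK
  have hKQ : ∀ v ∈ U, K v ∈ Q := fun v hv => hcomm v hv u hu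
  have hKmul : ∀ v ∈ U, ∀ v' ∈ U, K (v * v') = K v * K v' := fun v hv v' hv' => by
    have h1 : K (v * v') = v * K v' * v⁻¹ * K v := by simp only [hK]; group
    rw [h1, ← (hQZ _ (hKQ v' hv') v hv).eq, mul_inv_cancel_right,
      (hQZ _ (hKQ v' hv') _ (hQU (hKQ v hv))).eq]
  set W : Set G := {w | ∃ v ∈ U, w = K v}
  set uu : ℕ → G := fun i => g ^ i * u * (g ^ i)⁻¹ with huu
  have huuU : ∀ i, uu i ∈ U := fun i => (mem_normalizer_iff.1 (pow_mem hgU i) u).1 hu
  have hsq' : ∀ i, uu i * uu i = u * u := fun i => by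
    have h1 : Commute (g ^ i) (u * u) := (hQfix _ (hsq u hu)).pow_left i
    calc uu i * uu i = g ^ i * (u * u) * (g ^ i)⁻¹ := by simp only [huu]; group
      _ = u * u := by rw [h1.eq, mul_inv_cancel_right]
  let P : ℕ → G := fun m => ((List.range m).map uu).prod
  have hPsucc : ∀ m, P (m + 1) = P m * uu m := fun m => by
    simp [P, List.range_succ, List.prod_append]
  have hPU : ∀ m, P m ∈ U := by
    intro m
    induction m with
    | zero => simpa [P] using U.one_mem
    | succ m ih => rw [hPsucc]; exact U.mul_mem ih (huuU m)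
  have hcommW : ∀ i j, i ≤ j → uu j * uu i * (uu j)⁻¹ * (uu i)⁻¹ ∈ W := by
    intro i j hij
    obtain ⟨d, rfl⟩ := Nat.exists_eq_add_of_le hij
    refine ⟨uu d, huuU d, ?_⟩
    have h1 : uu (i + d) * uu i * (uu (i + d))⁻¹ * (uu i)⁻¹ = g ^ i * K (uu d) * (g ^ i)⁻¹ := by
      simp only [huu, hK, pow_add]; group
    rw [h1, ((hQfix _ (hKQ _ (huuU d))).pow_left i).eq, mul_inv_cancel_right]
  have hWmul : ∀ a ∈ W, ∀ b ∈ W, a * b ∈ W := by
    rintro _ ⟨v, hv, rfl⟩ _ ⟨v', hv', rfl⟩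
    exact ⟨v * v', U.mul_mem hv hv', (hKmul v hv v' hv').symm⟩
  have hcommP : ∀ j m, m ≤ j → uu j * P m * (uu j)⁻¹ * (P m)⁻¹ ∈ W := by
    intro j m
    induction m with
    | zero => exact fun _ => ⟨1, U.one_mem, by simp [P, hK]⟩
    | succ m ih =>
      intro hm
      have h1 : uu j * P (m + 1) * (uu j)⁻¹ * (P (m + 1))⁻¹ =
          uu j * P m * (uu j)⁻¹ * (P m)⁻¹ *
            (P m * (uu j * uu m * (uu j)⁻¹ * (uu m)⁻¹) * (P m)⁻¹) := by
        rw [hPsucc]; group
      rw [h1, ← (hQZ _ (hcomm _ (huuU j) _ (huuU m)) _ (hPU m)).eq, mul_inv_cancel_right]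
      exact hWmul _ (ih (by omega)) _ (hcommW m j (by omega))
  have hPsq : ∀ m, ∃ w ∈ W, P m * P m = (u * u) ^ m * w := by
    intro m
    induction m with
    | zero => exact ⟨1, ⟨1, U.one_mem, by simp [hK]⟩, by simp [P]⟩
    | succ m ih =>
      obtain ⟨w, hw, hPw⟩ := ih
      set b := uu m * P m * (uu m)⁻¹ * (P m)⁻¹ with hb
      have hbW : b ∈ W := hcommP m m le_rfl
      have hbQ : b ∈ Q := hcomm _ (huuU m) _ (hPU m)
      refine ⟨w * b, hWmul _ hw _ hbW, ?_⟩
      have h1 : P (m + 1) * P (m + 1) = P m * b * P m * (uu m * uu m) := by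
        rw [hPsucc, hb]; group
      have hwQ : w ∈ Q := by obtain ⟨v, hv, rfl⟩ := hw; exact hKQ v hv
      rw [h1, hsq', ← (hQZ b hbQ _ (hPU m)).eq, mul_assoc b, (hQZ b hbQ _
        (U.mul_mem (hPU m) (hPU m))).eq, hPw, pow_succ, mul_assoc _ (u * u) (w * b),
        mul_assoc ((u * u) ^ m) w b, mul_assoc]
      congr 1
      exact (hQZ _ (hsq u hu) _ (hQU (Q.mul_mem hwQ hbQ))).eq.symm
  -- the product over the orbit is fixed
  set r := orderOf g with hr
  obtain ⟨k, hk⟩ := hg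
  have hcP : ∀ m, c (P m) = u⁻¹ * P m * uu m := by
    intro m
    induction m with
    | zero => simp [P, huu, hc]
    | succ m ih =>
      have h1 : c (P (m + 1)) = c (P m) * c (uu m) := by rw [hPsucc]; simp only [hc]; group
      have h2 : c (uu m) = uu (m + 1) := by simp only [hc, huu, pow_succ']; group
      rw [h1, h2, ih, hPsucc, mul_assoc (u⁻¹) (P m) (uu m)]
  have hPfix : Commute g (P r) := by
    have h1 := hcP r
    have h2 : uu r = u := by simp [huu, hr, pow_orderOf_eq_one]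
    rw [h2] at h1
    have hdQ : u⁻¹ * P r * u * (P r)⁻¹ ∈ Q := by
      have h3 := hcomm u⁻¹ (U.inv_mem hu) (P r) (hPU r)
      rwa [inv_inv] at h3
    have h4 := hone (P r) (u⁻¹ * P r * u * (P r)⁻¹) (by rw [h1]; group) (hQfix _ hdQ) (hQU hdQ)
    rw [mul_inv_eq_one] at h4
    exact hfixc _ (h1.trans h4)
  obtain ⟨w, hwW, hPw⟩ := hPsq r
  set z := P r * ((u * u) ^ k)⁻¹ with hz
  have hzU : z ∈ U := U.mul_mem (hPU r) (U.inv_mem (pow_mem (U.mul_mem hu hu) k))
  have hzfix : Commute g z := hPfix.mul_right ((hQfix _ (hsq u hu)).pow_right k).inv_right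
  have hzZ := hDZ z hzU hzfix
  set u' := u * z⁻¹ with hu'
  have hu'U : u' ∈ U := U.mul_mem hu (U.inv_mem hzU)
  -- the square of `u'` is a commutator
  have hz2 : z * z = u * u * w := by
    have hq := hQZ _ (Q.inv_mem (pow_mem (hsq u hu) k))
    have hQw : w ∈ Q := by obtain ⟨v, hv, rfl⟩ := hwW; exact hKQ v hv
    calc z * z = P r * ((((u * u) ^ k)⁻¹) * P r) * ((u * u) ^ k)⁻¹ := by rw [hz]; group
      _ = P r * P r * (((u * u) ^ k)⁻¹ * ((u * u) ^ k)⁻¹) := by rw [(hq _ (hPU r)).eq]; group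
      _ = (u * u) ^ r * (w * (((u * u) ^ k)⁻¹ * ((u * u) ^ k)⁻¹)) := by rw [hPw, mul_assoc]
      _ = (u * u) ^ r * (((u * u) ^ k)⁻¹ * ((u * u) ^ k)⁻¹ * w) := by
        rw [(hQZ w hQw _ (hQU (Q.mul_mem (Q.inv_mem (pow_mem (hsq u hu) k))
          (Q.inv_mem (pow_mem (hsq u hu) k))))).eq]
      _ = u * u * w := by
        rw [hk, ← mul_assoc, pow_succ', two_mul, pow_add]; group
  obtain ⟨v, hv, rfl⟩ := hwW
  have hu'2 : u' * u' = (K v)⁻¹ := by
    calc u' * u' = u * (z⁻¹ * u) * z⁻¹ := by rw [hu']; group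
      _ = u * u * (z * z)⁻¹ := by rw [(hzZ u hu).inv_left.eq]; group
      _ = u * u * (u * u * K v)⁻¹ := by rw [hz2]
      _ = (K v)⁻¹ := by
        rw [mul_inv_rev, ← mul_assoc, ← (hQZ _ (Q.inv_mem (hKQ v hv)) _ (U.mul_mem hu hu)).eq,
          mul_inv_cancel_right]
  have hK2 : K v * K v = 1 := by
    have h1 : v * (u * u) * v⁻¹ * (u * u)⁻¹ = 1 := by
      rw [← (hQZ _ (hsq u hu) v hv).eq, mul_inv_cancel_right, mul_inv_cancel]
    have h2 : v * (u * u) * v⁻¹ * (u * u)⁻¹ = K v * (u * K v * u⁻¹) := by simp only [hK]; group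
    rw [h1, ← (hQZ _ (hKQ v hv) u hu).eq, mul_inv_cancel_right] at h2
    exact h2.symm
  have hvu' : v * u' * v⁻¹ = K v * u' := by
    have h1 : v * u' * v⁻¹ = v * u * v⁻¹ * (v * z⁻¹ * v⁻¹) := by rw [hu']; group
    rw [h1, ← (hzZ v hv).inv_left.eq, mul_inv_cancel_right, hu', hK]
    group
  have hu'4 : v * u' * v⁻¹ = u'⁻¹ := by
    rw [hvu', eq_inv_iff_mul_eq_one, mul_assoc, hu'2, mul_inv_cancel]
  have hu'cen := hreal u' hu'U v hv hu'4
  have hKv : K v = 1 := by
    have h1 := hvu'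
    rw [← (hu'cen v hv).eq, mul_inv_cancel_right] at h1
    exact mul_eq_right.1 h1.symm
  have hgu' : Commute g u' := hinv u' hu'U (by rw [hu'2, hKv, inv_one])
  have h5 := hgu'.mul_right hzfix
  rwa [hu', inv_mul_cancel_right] at h5

end Cfsg.Agent.Real72
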